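import Mathlib
import Groth.Agent.Lib.Helper1.CohLen
import Groth.Agent.Lib.Helper2.HomSh5
import Groth.Agent.Lib.Helper5.Curve6.PtDeg
import Groth.Agent.Lib.Helper5.DegC.Cartier
import Groth.Prelude.Def_TorSh

/-!
# The ideal sheaf of a closed point of a proper curve: torsion-free of rank one and degree `-1`.
-/

set_option autoImplicit false
universe u
open CategoryTheory CategoryTheory.Limits AlgebraicGeometry TopologicalSpace Opposite

namespace Groth.Agent.H5.MP

open Groth.Agent.LD Groth.Agent.LD.QC Groth.Agent.H5.Curve2 Groth.Agent.H5.Snap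
  Groth.Agent.H5.DegC Groth.Agent.H1.CohLen

variable {X : Scheme.{u}}

/-- the stalk of the structure module is torsion-free. -/
theorem isTorsionFree_unit_stalk (x : X) :
    Module.IsTorsionFree (X.presheaf.stalk x) ((Coh.structureModule X).presheaf.stalk x) :=
  Function.Injective.moduleIsTorsionFree (N := X.presheaf.stalk x)
    (Groth.Agent.H2.HomSh.unitStalkEquiv x).symm
    (Groth.Agent.H2.HomSh.unitStalkEquiv x).symm.injective (fun r m => map_smul _ r m)

/-- ideal sheaves are torsion-free. -/
theorem isTorsionFree_idealMod (I : X.IdealSheafData) :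
    TorSh.IsTorsionFree (ClSub.idealMod I) := by
  intro x
  haveI := isTorsionFree_unit_stalk x
  haveI : Mono (ClSub.idealModι I) := (shortExact_idealMod I).mono_f
  exact Function.Injective.moduleIsTorsionFree (stalkLin (ClSub.idealModι I) x)
    (stalkFun_injective_of_mono (ClSub.idealModι I) x) (fun r m => map_smul _ r m)

/-- away from its support an ideal sheaf has stalks free of rank one. -/
theorem finrank_stalk_idealMod_of_notMem (I : X.IdealSheafData) (η : X)
    (hη : η ∉ I.support) :
    Module.finrank (X.presheaf.stalk η) ((ClSub.idealMod I).presheaf.stalk η) = 1 := by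
  have hS := shortExact_idealMod I
  haveI : Mono (ClSub.idealModι I) := hS.mono_f
  have hex := stalkFun_exact _ hS η
  have hsub : Subsingleton ((ClSub.quotMod I).presheaf.stalk η) := by
    by_contra h
    have h1 : η ∈ CohB1.support (ClSub.quotMod I) := h
    rw [support_quotMod] at h1
    exact hη h1
  have hsurj : Function.Surjective (stalkLin (ClSub.idealModι I) η) := by
    intro m
    exact (hex m).mp (Subsingleton.elim _ _)
  let e := LinearEquiv.ofBijective (stalkLin (ClSub.idealModι I) η)
    ⟨stalkFun_injective_of_mono _ η, hsurj⟩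
  rw [(e.trans (Groth.Agent.H2.HomSh.unitStalkEquiv η).symm).finrank_eq]
  exact Module.finrank_self _

/-- a closed point is not the generic point of a one-dimensional irreducible component. -/
theorem ne_of_isClosed_of_dim_one (P η : X) (hP : IsClosed ({P} : Set X))
    (h1 : topologicalKrullDim (closure ({η} : Set X)) = 1) : η ≠ P := by
  rintro rfl
  rw [hP.closure_eq] at h1
  haveI : Subsingleton (({η} : Set X)) := by
    refine ⟨fun a b => Subtype.ext ?_⟩
    rw [Set.mem_singleton_iff.mp a.2, Set.mem_singleton_iff.mp b.2]
  haveI : Subsingleton (IrreducibleCloseds (({η} : Set X))) := by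
    refine ⟨fun A B => ?_⟩
    apply IrreducibleCloseds.ext
    ext z
    obtain ⟨a, ha⟩ := A.isIrreducible'.nonempty
    obtain ⟨b, hb⟩ := B.isIrreducible'.nonempty
    constructor
    · intro _
      rw [Subsingleton.elim z b]
      exact hb
    · intro _
      rw [Subsingleton.elim z a]
      exact ha
  have : topologicalKrullDim (({η} : Set X)) ≤ 0 := by
    unfold topologicalKrullDim
    exact Order.krullDim_nonpos_of_subsingleton
  rw [h1] at this
  exact absurd this (by decide)

variable (k : Type u) [Field k] [X.Over (Spec (CommRingCat.of k))]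
  [IsProper (X ↘ Spec (CommRingCat.of k))]

/-- the ideal sheaf of a closed point has degree `-1`. -/
theorem deg_idealMod_point [IsAlgClosed k] (P : X) (hP : IsClosed ({P} : Set X)) :
    Curv2.deg k X (ClSub.idealMod (Scheme.IdealSheafData.vanishingIdeal ⟨{P}, hP⟩)) 1 = -1 := by
  haveI : IsNoetherian X := Curve2.isNoetherian_of_proper k X
  have hvI : vI P = Scheme.IdealSheafData.vanishingIdeal ⟨{P}, hP⟩ :=
    congrArg Scheme.IdealSheafData.vanishingIdeal (Closeds.ext hP.closure_eq)
  generalize Scheme.IdealSheafData.vanishingIdeal ⟨{P}, hP⟩ = I at hvI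
  have hsupp : (I.support : Set X) = {P} := by
    rw [← hvI]
    change closure ({P} : Set X) = {P}
    exact hP.closure_eq
  have hQc : Coh.IsCoh (ClSub.quotMod I) := isCoh_quotMod I
  have hOc := Groth.Agent.LD.PF.isCoh_unitMod X
  have hIc : Coh.IsCoh (ClSub.idealMod I) :=
    isCoh_of_mono (ClSub.idealModι I) inferInstance hOc
  have e1 := Curve.euler_add k X _ (shortExact_idealMod I) hIc hOc hQc
  have hpt : ∀ x : X, ¬ Subsingleton ((ClSub.quotMod I).presheaf.stalk x) →
      IsClosed ({x} : Set X) := by
    intro x hx
    have hx' : x ∈ CohB1.support (ClSub.quotMod I) := hx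
    rw [support_quotMod, hsupp, Set.mem_singleton_iff] at hx'
    rw [hx']
    exact hP
  change Curv2.euler k X (unitMod X) =
    Curv2.euler k X (ClSub.idealMod I) + Curv2.euler k X (ClSub.quotMod I) at e1
  rw [Curve.euler_of_support_closed_points k X _ hQc hpt] at e1
  have h1 := Curve6.finrank_H0_quotMod_vI k X P
  rw [hvI] at h1
  rw [h1] at e1
  unfold Curv2.deg
  change Curv2.euler k X (ClSub.idealMod I) - (1 : ℕ) * Curv2.euler k X (unitMod X) = -1
  rw [e1]
  push_cast
  ring

end Groth.Agent.H5.MP
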